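import Groth.Prelude.Def_EtDl
import Groth.Prelude.Def_SixF1
import Groth.Agent.Etdl.H424.PullPushPlus
import Groth.Agent.Etdl.H423.ModBasic
import Groth.Agent.Etcore.ShriekBaseChange

/-!
# Base change for extension by zero and for `R⁺f_*` on `D^+` (sheaves of `Λ`-modules)

* `exactComp`: for exact functors `F`, `G`: `R⁺F ⋙ R⁺G ≅ R⁺(F ⋙ G)`;
* `extPull`: `f'^* ⋙ j'_! ≅ j_! ⋙ f^*` for a cartesian square with `j` étale, sheaves of modules;
* `extPullPlus`: the same on `D^+`;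
* `bcNatTrans`: the base change morphisms `EtSix.bcMapMod` as a natural transformation
  `R⁺f_* ⋙ R⁺g^* ⟶ R⁺g'^* ⋙ R⁺f'_*`.
-/

set_option autoImplicit false
universe u v₁ v₂ v₃ u₁ u₂ u₃

open CategoryTheory CategoryTheory.Limits AlgebraicGeometry Opposite

attribute [local instance] HasDerivedCategory.standard

namespace K593.BCPlus

open Groth.Agent Groth.Agent.Etdl.H424 Groth.Agent.Etdl.H423.ModBasic

section generic

variable {A : Type u₁} [Category.{v₁} A] [Abelian A] [EnoughInjectives A]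
  {B : Type u₂} [Category.{v₂} B] [Abelian B] [EnoughInjectives B]
  {C : Type u₃} [Category.{v₃} C] [Abelian C]
  [HasDerivedCategory A] [HasDerivedCategory B] [HasDerivedCategory C]

/-- `R⁺F ⋙ R⁺G ≅ R⁺H` for `F ⋙ G ≅ H`, `G` exact. -/
noncomputable def exactComp (F : A ⥤ B) (G : B ⥤ C) (H : A ⥤ C) [F.Additive] [G.Additive]
    [H.Additive] [PreservesFiniteLimits G] [PreservesFiniteColimits G] (e : F ⋙ G ≅ H) :
    F.rightDerivedFunctorPlus ⋙ G.rightDerivedFunctorPlus ≅ H.rightDerivedFunctorPlus :=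
  PlusAdj.compIso F G H e (fun I _ i hi => by
    obtain ⟨n, rfl⟩ : ∃ n, i = n + 1 := ⟨i - 1, by lia⟩
    exact Groth.Agent.Sga4h.FunLES.isZero_rightDerived_of_exact _ (F.obj I) n)

end generic

variable (Λ : Type (u + 1)) [CommRing Λ]

section ext

variable {V' V Y X : Scheme.{u}} (j : V ⟶ X) [Etale j] [EtShriek.JCont j]
    (f : Y ⟶ X) (j' : V' ⟶ Y) [Etale j'] [EtShriek.JCont j'] (f' : V' ⟶ V)
    (h : IsPullback j' f' f j)

/-- `j^{-1} f_* ≅ f'_* j'^{-1}` for sheaves of modules. -/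
noncomputable def restrPushIso :
    EtDl.restrMod Λ j' ⋙ EtModW.push Λ f' ≅ EtModW.push Λ f ⋙ EtDl.restrMod Λ j :=
  letI := Functor.isContinuous_comp (EtShriek.compEtale j) (EtCoh.bc f) V.smallEtaleTopology
    X.smallEtaleTopology Y.smallEtaleTopology
  letI := Functor.isContinuous_comp (EtCoh.bc f') (EtShriek.compEtale j') V.smallEtaleTopology
    V'.smallEtaleTopology Y.smallEtaleTopology
  Functor.sheafPushforwardContinuousIso (Etcore.ShriekBaseChange.bcCompIso j f j' f' h)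
    (ModuleCat.{u + 1} Λ) V.smallEtaleTopology Y.smallEtaleTopology

/-- `f'^* ⋙ j'_! ≅ j_! ⋙ f^*` for sheaves of modules. -/
noncomputable def extPull :
    EtModW.pull Λ f' ⋙ EtDl.extZeroMod Λ j' ≅ EtDl.extZeroMod Λ j ⋙ EtModW.pull Λ f :=
  Adjunction.leftAdjointUniq
    (((EtDl.pullPushModAdj Λ f').comp (EtDl.extZeroModAdj Λ j')).ofNatIsoRight
      (restrPushIso Λ j f j' f' h))
    ((EtDl.extZeroModAdj Λ j).comp (EtDl.pullPushModAdj Λ f))

instance preservesFiniteColimits_pull (f : X ⟶ Y) : PreservesFiniteColimits (EtModW.pull Λ f) :=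
  have : PreservesColimitsOfSize.{0, 0} (EtModW.pull Λ f) :=
    (EtDl.pullPushModAdj Λ f).leftAdjoint_preservesColimits
  PreservesColimitsOfSize.preservesFiniteColimits _

/-- `f'^* ⋙ j'_! ≅ j_! ⋙ f^*` on `D^+`. -/
noncomputable def extPullPlus :
    EtDl.pullPlus Λ f' ⋙ EtDl.extZeroPlus Λ j' ≅ EtDl.extZeroPlus Λ j ⋙ EtDl.pullPlus Λ f :=
  exactComp (EtModW.pull Λ f') (EtDl.extZeroMod Λ j') _ (Iso.refl _) ≪≫
    (exactComp (EtDl.extZeroMod Λ j) (EtModW.pull Λ f)
      (EtModW.pull Λ f' ⋙ EtDl.extZeroMod Λ j') (extPull Λ j f j' f' h).symm).symm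

end ext

section bc

variable {X Y X' Y' : Scheme.{u}} (f : X ⟶ Y) (g : Y' ⟶ Y) (f' : X' ⟶ Y') (g' : X' ⟶ X)
  (w : g' ≫ f = f' ≫ g) (adj : EtDl.pullPlus Λ g ⊣ EtDl.pushPlus Λ g)

/-- The base change morphisms on `D^+` as a natural transformation. -/
noncomputable def bcNatTrans :
    EtDl.pushPlus Λ f ⋙ EtDl.pullPlus Λ g ⟶ EtDl.pullPlus Λ g' ⋙ EtDl.pushPlus Λ f' where
  app K := EtSix.bcMapMod Λ f g f' g' w adj K
  naturality K L φ := by
    dsimp only [EtSix.bcMapMod, Functor.comp_map, Functor.comp_obj]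
    rw [← Adjunction.homEquiv_naturality_left_symm, ← Adjunction.homEquiv_naturality_right_symm]
    congr 1
    exact (EtSix.bcAdjMod Λ f g f' g' w).naturality φ

/-- Base change isomorphism of functors, from the objectwise statement. -/
noncomputable def bcNatIso (H : ∀ K, IsIso (EtSix.bcMapMod Λ f g f' g' w adj K)) :
    EtDl.pushPlus Λ f ⋙ EtDl.pullPlus Λ g ≅ EtDl.pullPlus Λ g' ⋙ EtDl.pushPlus Λ f' :=
  have : ∀ K, IsIso ((bcNatTrans Λ f g f' g' w adj).app K) := H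
  have : IsIso (bcNatTrans Λ f g f' g' w adj) := NatIso.isIso_of_isIso_app _
  asIso (bcNatTrans Λ f g f' g' w adj)

end bc

end K593.BCPlus
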