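import Groth.Agent.EtDl.K593.BCPlus
import Groth.Agent.Etdl.H424.EtaleShriek
import Groth.Agent.Dual.H310.DomComp
import Groth.Agent.S4331

/-!
# `Rf_!` on `D^+` (sheaves of `Λ`-modules, `n · 1 = 0` in `Λ`)

* `nonempty_indep`: `R⁺f_!` does not depend on the compactification;
* `nonempty_baseChange`: `R⁺f_! ⋙ g^* ≅ g'^* ⋙ R⁺f'_!` for a cartesian square and arbitrary
  compactifications;
* `nonempty_upperShriek_push`: `R⁺f'^! ⋙ R⁺g'_* ≅ R⁺g_* ⋙ R⁺f^!`.
-/

set_option autoImplicit false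
universe u

open CategoryTheory CategoryTheory.Limits AlgebraicGeometry Opposite

attribute [local instance] HasDerivedCategory.standard

namespace K593.IndepPlus

open Groth.Agent Groth.Agent.Etdl.H424 K593.BCPlus

variable (Λ : Type (u + 1)) [CommRing Λ]

section indep

variable {X S : Scheme.{u}} {f : X ⟶ S}

/-- `R⁺h_* ⋙ R⁺g_* ≅ R⁺(h ≫ g)_*`. -/
noncomputable def pushComp {X Y Z : Scheme.{u}} (h : X ⟶ Y) (g : Y ⟶ Z) :
    EtDl.pushPlus Λ h ⋙ EtDl.pushPlus Λ g ≅ EtDl.pushPlus Λ (h ≫ g) :=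
  have := PullPushPlus.isIso_compMapMod Λ h g
  (asIso (EtSix.compMapMod Λ h g)).symm

/-- Refinement of a compactification. -/
noncomputable def refine (c : DEt.Compactification f) {W : Scheme.{u}} (k : X ⟶ W)
    [IsOpenImmersion k] (h : W ⟶ c.Xbar) [IsProper h] (w : k ≫ h = c.j)
    (n : ℕ) (hn : 0 < n) (hΛ : (n : Λ) = 0) :
    EtDl.RshriekPlus Λ c ≅ EtDl.extZeroPlus Λ k ⋙ EtDl.pushPlus Λ (h ≫ c.fbar) :=
  let d : DEt.Compactification c.j :=
    { Xbar := W, j := k, fbar := h, isOpenImmersion := inferInstance, isProper := inferInstance,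
      fac := w }
  have e : EtDl.RshriekPlus Λ d ≅ EtDl.extZeroPlus Λ c.j := EtaleShriek.rshriekIso d n hn hΛ
  Functor.isoWhiskerRight e.symm (EtDl.pushPlus Λ c.fbar) ≪≫ Functor.associator _ _ _ ≪≫
    Functor.isoWhiskerLeft (EtDl.extZeroPlus Λ k) (pushComp Λ h c.fbar)

/-- `R⁺f_!` does not depend on the compactification. -/
theorem nonempty_indep [QuasiCompact f] (c c' : DEt.Compactification f)
    (n : ℕ) (hn : 0 < n) (hΛ : (n : Λ) = 0) :
    Nonempty (EtDl.RshriekPlus Λ c ≅ EtDl.RshriekPlus Λ c') := by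
  obtain ⟨W, k, h, h', hk, hh, hh', e1, e2, e3⟩ := Dual.H310.DomComp.exists_dominating c c'
  have w1 : k ≫ h = c.j := e1.w.trans (Category.id_comp _)
  have w2 : k ≫ h' = c'.j := e2.w.trans (Category.id_comp _)
  have i1 := refine Λ c k h w1 n hn hΛ
  have i2 := refine Λ c' k h' w2 n hn hΛ
  rw [e3] at i1
  exact ⟨i1 ≪≫ i2.symm⟩

end indep

section bc

variable {X S X' S' : Scheme.{u}} {f : X ⟶ S} {f' : X' ⟶ S'} {g : S' ⟶ S} {g' : X' ⟶ X}

theorem isTorsion (n : ℕ) (hn : 0 < n) (hΛ : (n : Λ) = 0) (F : EtModW.Mod Λ X) :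
    EtCoh.IsTorsion ((EtModD.forgetToAb Λ X).obj F) :=
  Etdl.H423.ModBasic.isTorsion_ab Λ n hn hΛ F

/-- Base change for `R⁺f_!`. -/
theorem nonempty_baseChange (h : IsPullback g' f' f g) [QuasiCompact f']
    (c : DEt.Compactification f) (c' : DEt.Compactification f')
    (n : ℕ) (hn : 0 < n) (hΛ : (n : Λ) = 0) :
    Nonempty (EtDl.RshriekPlus Λ c ⋙ EtDl.pullPlus Λ g ≅
      EtDl.pullPlus Λ g' ⋙ EtDl.RshriekPlus Λ c') := by
  let i : X' ⟶ pullback c.fbar g := pullback.lift (g' ≫ c.j) f' (by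
    rw [Category.assoc, c.fac, h.w])
  have hi1 : i ≫ pullback.fst c.fbar g = g' ≫ c.j := pullback.lift_fst _ _ _
  have hi2 : i ≫ pullback.snd c.fbar g = f' := pullback.lift_snd _ _ _
  have sq2 : IsPullback (pullback.fst c.fbar g) (pullback.snd c.fbar g) c.fbar g :=
    IsPullback.of_hasPullback _ _
  have sq1 : IsPullback g' i c.j (pullback.fst c.fbar g) :=
    IsPullback.of_bot (by rw [hi2, c.fac]; exact h) hi1.symm sq2
  have : IsOpenImmersion i := MorphismProperty.of_isPullback sq1 (inferInstance : IsOpenImmersion c.j)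
  let c₁ : DEt.Compactification f' :=
    { Xbar := pullback c.fbar g
      j := i
      fbar := pullback.snd c.fbar g
      isOpenImmersion := inferInstance
      isProper := inferInstance
      fac := hi2 }
  obtain ⟨e⟩ := nonempty_indep Λ c₁ c' n hn hΛ
  have e1 : EtDl.pullPlus Λ g' ⋙ EtDl.extZeroPlus Λ i ≅
      EtDl.extZeroPlus Λ c.j ⋙ EtDl.pullPlus Λ (pullback.fst c.fbar g) :=
    extPullPlus Λ c.j (pullback.fst c.fbar g) i g' sq1.flip
  have e2 : EtDl.pushPlus Λ c.fbar ⋙ EtDl.pullPlus Λ g ≅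
      EtDl.pullPlus Λ (pullback.fst c.fbar g) ⋙ EtDl.pushPlus Λ (pullback.snd c.fbar g) :=
    bcNatIso Λ c.fbar g (pullback.snd c.fbar g) (pullback.fst c.fbar g) sq2.w
      (PullPushPlus.adj Λ g) (fun K => Groth.Agent.S4331.result c.fbar g _ _ sq2 Λ _ K
        (fun i => isTorsion Λ n hn hΛ _))
  refine ⟨Functor.associator _ _ _ ≪≫ Functor.isoWhiskerLeft (EtDl.extZeroPlus Λ c.j) e2 ≪≫
    (Functor.associator _ _ _).symm ≪≫ Functor.isoWhiskerRight e1.symm _ ≪≫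
    Functor.associator _ _ _ ≪≫ Functor.isoWhiskerLeft (EtDl.pullPlus Λ g') e⟩

/-- `R⁺f'^! ⋙ R⁺g'_* ≅ R⁺g_* ⋙ R⁺f^!`. -/
theorem nonempty_upperShriek_push (h : IsPullback g' f' f g) [QuasiCompact f']
    (c : DEt.Compactification f) (c' : DEt.Compactification f')
    (n : ℕ) (hn : 0 < n) (hΛ : (n : Λ) = 0)
    (G : DerivedCategory.Plus (EtModW.Mod Λ S) ⥤ DerivedCategory.Plus (EtModW.Mod Λ X))
    (adj : EtDl.RshriekPlus Λ c ⊣ G)
    (G' : DerivedCategory.Plus (EtModW.Mod Λ S') ⥤ DerivedCategory.Plus (EtModW.Mod Λ X'))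
    (adj' : EtDl.RshriekPlus Λ c' ⊣ G') :
    Nonempty (G' ⋙ EtDl.pushPlus Λ g' ≅ EtDl.pushPlus Λ g ⋙ G) := by
  obtain ⟨e⟩ := nonempty_baseChange Λ h c c' n hn hΛ
  exact ⟨Adjunction.rightAdjointUniq
    (((PullPushPlus.adj Λ g').comp adj').ofNatIsoLeft e.symm)
    (adj.comp (PullPushPlus.adj Λ g))⟩

end bc

end K593.IndepPlus
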